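import Groth.Agent.GaloisPts.Basic
import Groth.Agent.GeomPi0.Basic

/-!
Geometrically connected algebraic spaces over a field.
-/

universe u
open CategoryTheory CategoryTheory.Limits AlgebraicGeometry AlgSp Topology

set_option backward.isDefEq.respectTransparency false

namespace Groth.Agent.GeomConnSp

open Groth.Agent.AlgSpLib Groth.Agent.GeomPi0 Groth.Agent.GaloisPts

variable {k : Type u} [Field k]

theorem surjective_map_prod (X : Sp (Spec (CommRingCat.of k))) {L M : Type u} [Field L] [Field M]
    {v : Spec (CommRingCat.of L) ⟶ Spec (CommRingCat.of k)} {w : Spec (CommRingCat.of M) ⟶ Spec (CommRingCat.of k)}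
    (c : Over.mk w ⟶ Over.mk v) :
    Function.Surjective (Points.map (Limits.prod.map (𝟙 X) ((yon _).map c))) := fun x => by
  obtain ⟨p, hp, -⟩ := exists_point_of_isPullback (isPullback_prod_map X c) x
    (Points.ofScheme (Over.mk w) (IsLocalRing.closedPoint M))
    ((Points.schemeEquiv (Over.mk v)).symm.injective ((inferInstance : Subsingleton (PrimeSpectrum L)).elim _ _))
  exact ⟨p, hp⟩

theorem surjective_fst (X : Sp (Spec (CommRingCat.of k))) (K : Type u) [Field K] [Algebra k K] :
    Function.Surjective (Points.map (Limits.prod.fst : X ⨯ (yon _).obj (Ext (k := k) K) ⟶ X)) := fun x => by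
  obtain ⟨p, hp, -⟩ := exists_point_of_isPullback (isPullback_prod X (Ext (k := k) K)) x
    (Points.ofScheme (Ext (k := k) K) (IsLocalRing.closedPoint K))
    ((Points.schemeEquiv _).symm.injective ((inferInstance : Subsingleton (PrimeSpectrum k)).elim _ _))
  exact ⟨p, hp⟩

/-- over a separably closed field connected implies geometrically connected -/
theorem connected_prod_of_sepClosed [IsSepClosed k] {X : Sp (Spec (CommRingCat.of k))} (hX : IsAlgSpace X)
    (h : ConnectedSpace (Points X)) (K : Type u) [Field K] [Algebra k K] :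
    ConnectedSpace (Points (X ⨯ (yon _).obj (Ext (k := k) K))) := by
  obtain ⟨ho, hf⟩ := isOpenMap_and_connected_fibres hX (Over.homMk (Ext (k := k) K).hom : Ext (k := k) K ⟶ Over.mk (𝟙 _))
    ((Over.mkIdTerminal.isTerminalObj (yon _)).from X) (isPullback_prod X (Ext (k := k) K))
  have h1 := GeomConn.isConnected_preimage ho hf (connectedSpace_iff_univ.1 h)
  rw [Set.preimage_univ] at h1
  exact connectedSpace_iff_univ.2 h1

/-- connectedness descends along an extension -/
theorem connected_prod_of_amalgamation (X : Sp (Spec (CommRingCat.of k))) (k' : Type u) [Field k'] [Algebra k k']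
    (h : ∀ (K : Type u) [Field K] [Algebra k K] [Algebra k' K] [IsScalarTower k k' K],
      ConnectedSpace (Points (X ⨯ (yon _).obj (Ext (k := k) K))))
    (K : Type u) [Field K] [Algebra k K] : ConnectedSpace (Points (X ⨯ (yon _).obj (Ext (k := k) K))) := by
  obtain ⟨Ω, _, i, j, hij⟩ := FieldPt.exists_amalgamation (algebraMap k K) (algebraMap k k')
  letI : Algebra k' Ω := j.toAlgebra
  letI : Algebra k Ω := (i.comp (algebraMap k K)).toAlgebra
  haveI : IsScalarTower k k' Ω := IsScalarTower.of_algebraMap_eq' hij
  haveI := h Ω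
  exact (surjective_map_prod X (extMap { i with commutes' := fun _ => rfl } : Ext (k := k) Ω ⟶ Ext (k := k) K)).connectedSpace
    (Points.continuous_map _)

/-- products with a geometrically connected space have connected fibres -/
theorem isOpenMap_and_connected_fibres_snd {X : Sp (Spec (CommRingCat.of k))} (hX : IsAlgSpace X)
    {Y : Sp (Spec (CommRingCat.of k))} (hY : IsAlgSpace Y)
    (h : ∀ (K : Type u) [Field K] [Algebra k K], ConnectedSpace (Points (X ⨯ (yon _).obj (Ext (k := k) K)))) :
    IsOpenMap (Points.map (Limits.prod.snd : X ⨯ Y ⟶ Y)) ∧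
      ∀ z : Points Y, _root_.IsConnected (Points.map (Limits.prod.snd : X ⨯ Y ⟶ Y) ⁻¹' {z}) := by
  have t := Over.mkIdTerminal.isTerminalObj (yon (Spec (CommRingCat.of k)))
  have sq : IsPullback (Limits.prod.snd : X ⨯ Y ⟶ Y) (Limits.prod.fst) (t.from Y) (t.from X) :=
    (IsPullback.of_is_product (prodIsProd X Y) t).flip
  refine ⟨isUnivOpenMor_to_field hX (𝟙 _) (t.from X) hY (t.from Y) Limits.prod.fst Limits.prod.snd sq.flip, fun z => ?_⟩
  obtain ⟨p, rfl⟩ := Points.mk_surjective z
  obtain ⟨φ, hφ⟩ := Spec.map_surjective p.str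
  letI : Algebra k p.K := φ.hom.toAlgebra
  have hc : ConnectedSpace (Points (X ⨯ (yon _).obj p.pt)) := by
    show ConnectedSpace (Points (X ⨯ (yon _).obj (Over.mk p.str)))
    rw [← hφ]
    exact h p.K
  have sq' : IsPullback (Limits.prod.map (𝟙 X) p.toHom) Limits.prod.snd Limits.prod.snd p.toHom := by
    have sXY : IsPullback (Limits.prod.fst : X ⨯ Y ⟶ X) Limits.prod.snd (t.from X) (t.from Y) :=
      IsPullback.of_is_product (prodIsProd X Y) t
    refine IsPullback.of_right ?_ (Limits.prod.map_snd _ _) sXY
    rw [Limits.prod.map_fst, Category.comp_id, t.hom_ext (p.toHom ≫ t.from Y) (t.from _)]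
    exact IsPullback.of_is_product (prodIsProd X _) t
  have e : Points.map (Limits.prod.snd : X ⨯ Y ⟶ Y) ⁻¹' {Points.mk p} =
      Set.range (Points.map (Limits.prod.map (𝟙 X) p.toHom)) := by
    ext x
    constructor
    · intro hx
      obtain ⟨y, hy, -⟩ := exists_point_of_isPullback sq' x (Points.ofPt (𝟙 _) (IsLocalRing.closedPoint p.K))
        (by rw [Points.map_ofPt, Category.id_comp, Points.ofPt_toHom]; exact hx)
      exact ⟨y, hy⟩
    · rintro ⟨y, rfl⟩
      show Points.map Limits.prod.snd (Points.map (Limits.prod.map (𝟙 X) p.toHom) y) = Points.mk p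
      rw [← Points.map_comp, Limits.prod.map_snd, Points.map_comp,
        ← (Points.schemeEquiv p.pt).apply_symm_apply (Points.map Limits.prod.snd y)]
      exact ((Points.map_ofPt _ _ _).trans (by rw [Category.id_comp])).trans (Points.ofPt_toHom p _)
  rw [e]
  exact isConnected_range (Points.continuous_map _)

end Groth.Agent.GeomConnSp
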